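import Cfsg.Agent.H65.Ore.Split
import Cfsg.Agent.H653.Sieve.Prime
import Cfsg.Agent.H854.Ore.FourT

/-!
# S4171 (and S2443), sporadic rows: two strongly real elements `x`, `y`, the second one of composite order

`g` is a product of a conjugate of `x` and a conjugate of `y` (`H65.Ore.Prd x y g`) as soon as
`(m |C(y)| - 1) (|C(g)| - 1) < d²`, where `|χ x|² ≤ m` for all `χ` and `d ≤ χ(1)` for all nontrivial `χ` with `χ x ≠ 0 ≠ χ y`
(`prd_pair`, `prd_pair_ex`, `i4_pair`).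

The element `y = u k` with `u` of an exact prime order `p`, `C(u) = ⟨u⟩ × K`, `k ∈ K`: if `χ (u k) ≠ 0` there is `θ ∈ Irr K` with
`θ k ≠ 0` and `χ(1) ≡ ± m θ(1)` or `± e θ(1)` modulo `p`, `m` the length of the orbit of `θ` under `N(⟨u⟩)`:

* `exists_theta`, `deg_of_over` : the statement with characters;
* `van_mod` : the list of the possible residues of `χ(1)` modulo `p` from `|G|`, `p`, `|K|`, `q ∣ orderOf k` (`θ k = 0` if the
  full power of `q` in `|K|` divides `θ(1)`) and a relation `R m n` for the possible orbit lengths and degrees of `K`;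
* `SR.mul_of` : `u k` is strongly real.
-/

set_option autoImplicit false

namespace Cfsg.Agent.H529.Inv.Pair

open Cfsg Subgroup
open Cfsg.Agent.Characters Cfsg.Agent.Characters.Core
open Cfsg.Agent.SmallSimple.ThetaSetup Cfsg.Agent.SmallSimple.ThetaOrtho
open Cfsg.Agent.SmallSimple.TheoremC Cfsg.Agent.SmallSimple.TheoremCCor
open Cfsg.Agent.SmallSimple.PrimeDual Cfsg.Agent.SmallSimple.ThetaCount
open Cfsg.Agent.SmallSimple.PrimeLocal
open Cfsg.Agent.H65.Ore (Prd one1 Dat)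
open Cfsg.Agent.H854.Ore (SR)
open Cfsg.Agent.H777.Ore (I4)
open scoped ComplexConjugate

universe u

variable {G : Type u} [Group G]

/-! ### Strongly real elements -/

theorem SR.mul_of {a k j : G} (hak : a * k = k * a) (hj : j * j = 1) (ha : j * a * j⁻¹ = a⁻¹) (hk : j * k * j⁻¹ = k⁻¹) :
    SR (a * k) := by
  refine ⟨j, hj, ?_⟩
  calc j * (a * k) * j⁻¹ = (j * a * j⁻¹) * (j * k * j⁻¹) := by group
    _ = (k * a)⁻¹ := by rw [ha, hk, mul_inv_rev]
    _ = (a * k)⁻¹ := by rw [hak]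

/-- `i` inverts `a` and centralizes `k`, `j` inverts `k` and centralizes `a`, `i` and `j` commute -/
theorem SR.mul_of_two {a k i j : G} (hak : a * k = k * a) (hi : i * i = 1) (hj : j * j = 1) (hij : i * j = j * i)
    (ha : i * a * i⁻¹ = a⁻¹) (hk : j * k * j⁻¹ = k⁻¹) (ha' : j * a = a * j) (hk' : i * k = k * i) : SR (a * k) := by
  have e1 : j * a * j⁻¹ = a := by rw [ha', mul_inv_cancel_right]
  have e2 : i * k * i⁻¹ = k := by rw [hk', mul_inv_cancel_right]
  refine SR.mul_of (j := i * j) hak ?_ ?_ ?_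
  · calc i * j * (i * j) = i * (j * i) * j := by group
      _ = i * i * (j * j) := by rw [← hij]; group
      _ = 1 := by rw [hi, hj, one_mul]
  · calc i * j * a * (i * j)⁻¹ = i * (j * a * j⁻¹) * i⁻¹ := by group
      _ = a⁻¹ := by rw [e1, ha]
  · calc i * j * k * (i * j)⁻¹ = i * (j * k * j⁻¹) * i⁻¹ := by group
      _ = (i * k * i⁻¹)⁻¹ := by rw [hk]; group
      _ = k⁻¹ := by rw [e2]

theorem SR.conj {x : G} (h : SR x) (a : G) : SR (a * x * a⁻¹) := by
  obtain ⟨t, ht, hx⟩ := h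
  refine ⟨a * t * a⁻¹, ?_, ?_⟩
  · calc a * t * a⁻¹ * (a * t * a⁻¹) = a * (t * t) * a⁻¹ := by group
      _ = 1 := by rw [ht]; group
  · calc a * t * a⁻¹ * (a * x * a⁻¹) * (a * t * a⁻¹)⁻¹ = a * (t * x * t⁻¹) * a⁻¹ := by group
      _ = (a * x * a⁻¹)⁻¹ := by rw [hx]; group

theorem i4_of_prd {x y g : G} (hx : SR x) (hy : SR y) (h : Prd x y g) : I4 g := by
  obtain ⟨a, b, rfl⟩ := h
  obtain ⟨s, t, hs, ht, e1⟩ := hx.two a
  obtain ⟨s', t', hs', ht', e2⟩ := hy.two b
  exact ⟨s, t, s', t', hs, ht, hs', ht', by rw [e1, e2]; group⟩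

/-! ### The counting lemma -/

variable [Finite G]

/-- **The pair lemma.** -/
theorem prd_pair {x y g : G} {mx cy c d : ℕ} (hx : ∀ χ : IrrCharacter G, ‖(χ : G → ℂ) x‖ ^ 2 ≤ (mx : ℝ))
    (hy : Nat.card (centralizer ({y} : Set G)) ≤ cy)
    (hd : ∀ χ : IrrCharacter G, (χ : G → ℂ) ≠ 1 → (χ : G → ℂ) x ≠ 0 → (χ : G → ℂ) y ≠ 0 → d ≤ charDegree (χ : G → ℂ))
    (hg : Nat.card (centralizer ({g} : Set G)) ≤ c) (hnum : (mx * cy - 1) * (c - 1) < d ^ 2) : Prd x y g := by
  have hfin : Finite (IrrCharacter G) := Core.finite_irr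
  have := Fintype.ofFinite (IrrCharacter G)
  have hd0 : 0 < d := by
    rcases Nat.eq_zero_or_pos d with h | h
    · rw [h] at hnum; simp at hnum
    · exact h
  have hmx : (1 : ℝ) ≤ mx := by
    have h1 := hx (one1 G)
    rw [H65.Ore.one1_apply, norm_one, one_pow] at h1
    exact h1
  have hcy : 1 ≤ cy := le_trans Nat.card_pos hy
  have hc : 1 ≤ c := le_trans Nat.card_pos hg
  apply H65.Ore.prd_of_sieve (d := (d : ℝ)) (by exact_mod_cast hd0)
  · intro χ h1 h2 h3
    have h4 := hd χ h1 h2 h3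
    rw [Blocks.Knorr.charDegree_eq χ.2, Complex.norm_natCast]
    exact_mod_cast h4
  · have h1 : ∑ χ : IrrCharacter G, (‖(χ : G → ℂ) x‖ * ‖(χ : G → ℂ) y‖) ^ 2 ≤ (mx : ℝ) * cy := by
      calc ∑ χ : IrrCharacter G, (‖(χ : G → ℂ) x‖ * ‖(χ : G → ℂ) y‖) ^ 2
          ≤ ∑ χ : IrrCharacter G, (mx : ℝ) * Complex.normSq ((χ : G → ℂ) y) := by
            refine Finset.sum_le_sum fun χ _ => ?_
            rw [mul_pow, Complex.normSq_eq_norm_sq]
            exact mul_le_mul_of_nonneg_right (hx χ) (sq_nonneg _)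
        _ = (mx : ℝ) * (Nat.card (centralizer ({y} : Set G)) : ℝ) := by
            rw [← Finset.mul_sum, H686.CharKit.sum_normSq]
        _ ≤ _ := by
            apply mul_le_mul_of_nonneg_left _ (by linarith)
            exact_mod_cast hy
    have h2 : (Nat.card (centralizer ({g} : Set G)) : ℝ) ≤ c := by exact_mod_cast hg
    have h3 : (1 : ℝ) ≤ (Nat.card (centralizer ({g} : Set G)) : ℝ) := by
      exact_mod_cast (Nat.card_pos : 0 < Nat.card (centralizer ({g} : Set G)))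
    have hmx' : 1 ≤ mx := by exact_mod_cast hmx
    have h4 : (((mx * cy - 1) * (c - 1) : ℕ) : ℝ) < ((d ^ 2 : ℕ) : ℝ) := by exact_mod_cast hnum
    have h5 : 1 ≤ mx * cy := Nat.mul_pos hmx' hcy
    rw [Nat.cast_mul, Nat.cast_sub h5, Nat.cast_sub hc] at h4
    push_cast at h4
    have h6 : (1 : ℝ) ≤ mx * cy := by exact_mod_cast h5
    calc (∑ χ : IrrCharacter G, (‖(χ : G → ℂ) x‖ * ‖(χ : G → ℂ) y‖) ^ 2 - 1) *
          ((Nat.card (centralizer ({g} : Set G)) : ℝ) - 1)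
        ≤ ((mx : ℝ) * cy - 1) * ((Nat.card (centralizer ({g} : Set G)) : ℝ) - 1) :=
          mul_le_mul_of_nonneg_right (by linarith) (by linarith)
      _ ≤ ((mx : ℝ) * cy - 1) * ((c : ℝ) - 1) := mul_le_mul_of_nonneg_left (by linarith) (by linarith)
      _ < _ := h4

/-- **The pair lemma for products of four involutions.** -/
theorem i4_pair {x y : G} (srx : SR x) (sry : SR y) {mx cy c d : ℕ}
    (hx : ∀ χ : IrrCharacter G, ‖(χ : G → ℂ) x‖ ^ 2 ≤ (mx : ℝ))
    (hy : Nat.card (centralizer ({y} : Set G)) ≤ cy)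
    (hd : ∀ χ : IrrCharacter G, (χ : G → ℂ) ≠ 1 → (χ : G → ℂ) x ≠ 0 → (χ : G → ℂ) y ≠ 0 → d ≤ charDegree (χ : G → ℂ))
    (hnum : (mx * cy - 1) * (c - 1) < d ^ 2) {g : G} (hg : Nat.card (centralizer ({g} : Set G)) ≤ c) : I4 g :=
  i4_of_prd srx sry (prd_pair hx hy hd hg hnum)

/-- **The pair lemma with exceptional characters** : the characters in `E` are estimated separately. -/
theorem prd_pair_ex {x y g : G} {mx cy c : ℕ} {d ρ : ℝ} (hx : ∀ χ : IrrCharacter G, ‖(χ : G → ℂ) x‖ ^ 2 ≤ (mx : ℝ))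
    (hy : Nat.card (centralizer ({y} : Set G)) ≤ cy) (E : Finset (IrrCharacter G)) (hE1 : one1 G ∉ E)
    (hE : ∑ χ ∈ E, ‖(χ : G → ℂ) x‖ * ‖(χ : G → ℂ) y‖ * ‖(χ : G → ℂ) g‖ / ‖(χ : G → ℂ) 1‖ ≤ ρ) (hρ : ρ < 1)
    (hd0 : 0 < d)
    (hd : ∀ χ : IrrCharacter G, (χ : G → ℂ) ≠ 1 → χ ∉ E → (χ : G → ℂ) x ≠ 0 → (χ : G → ℂ) y ≠ 0 →
      d ≤ ‖(χ : G → ℂ) 1‖)
    (hg : Nat.card (centralizer ({g} : Set G)) ≤ c) (hnum : ((mx : ℝ) * cy - 1) * (c - 1) < ((1 - ρ) * d) ^ 2) :
    Prd x y g := by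
  classical
  have hfin : Finite (IrrCharacter G) := Core.finite_irr
  have := Fintype.ofFinite (IrrCharacter G)
  apply H65.Ore.prd_of_sum_lt
  have hmx : (1 : ℝ) ≤ mx := by
    have h1 := hx (one1 G)
    rw [H65.Ore.one1_apply, norm_one, one_pow] at h1
    exact h1
  have hcy : (1 : ℝ) ≤ cy := by exact_mod_cast (le_trans Nat.card_pos hy : 1 ≤ cy)
  have hcg : (1 : ℝ) ≤ (Nat.card (centralizer ({g} : Set G)) : ℝ) := by
    exact_mod_cast (Nat.card_pos : 0 < Nat.card (centralizer ({g} : Set G)))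
  set F := (Finset.univ.erase (one1 G)) \ E with hF
  have hsub : E ⊆ Finset.univ.erase (one1 G) := fun χ hχ =>
    Finset.mem_erase.2 ⟨fun h => hE1 (h ▸ hχ), Finset.mem_univ _⟩
  rw [← Finset.add_sum_erase Finset.univ _ (Finset.mem_univ (one1 G)), ← Finset.sum_sdiff hsub]
  simp only [H65.Ore.one1_apply, norm_one, mul_one, div_one]
  -- the sum over `F`
  have hA : ∑ χ ∈ F, (‖(χ : G → ℂ) x‖ * ‖(χ : G → ℂ) y‖) ^ 2 ≤ (mx : ℝ) * cy - 1 := by
    have h1 : ∑ χ : IrrCharacter G, (‖(χ : G → ℂ) x‖ * ‖(χ : G → ℂ) y‖) ^ 2 ≤ (mx : ℝ) * cy := by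
      calc ∑ χ : IrrCharacter G, (‖(χ : G → ℂ) x‖ * ‖(χ : G → ℂ) y‖) ^ 2
          ≤ ∑ χ : IrrCharacter G, (mx : ℝ) * Complex.normSq ((χ : G → ℂ) y) := by
            refine Finset.sum_le_sum fun χ _ => ?_
            rw [mul_pow, Complex.normSq_eq_norm_sq]
            exact mul_le_mul_of_nonneg_right (hx χ) (sq_nonneg _)
        _ = (mx : ℝ) * (Nat.card (centralizer ({y} : Set G)) : ℝ) := by
            rw [← Finset.mul_sum, H686.CharKit.sum_normSq]
        _ ≤ _ := by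
            apply mul_le_mul_of_nonneg_left _ (by linarith)
            exact_mod_cast hy
    rw [← Finset.add_sum_erase Finset.univ _ (Finset.mem_univ (one1 G))] at h1
    simp only [H65.Ore.one1_apply, norm_one, mul_one, one_pow] at h1
    have h2 : ∑ χ ∈ F, (‖(χ : G → ℂ) x‖ * ‖(χ : G → ℂ) y‖) ^ 2 ≤
        ∑ χ ∈ Finset.univ.erase (one1 G), (‖(χ : G → ℂ) x‖ * ‖(χ : G → ℂ) y‖) ^ 2 :=
      Finset.sum_le_sum_of_subset_of_nonneg Finset.sdiff_subset fun _ _ _ => sq_nonneg _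
    linarith
  have hB : ∑ χ ∈ F, ‖(χ : G → ℂ) g‖ ^ 2 ≤ (c : ℝ) - 1 := by
    have h1 := H65.Ore.sum_erase_sq (G := G) g
    have h2 : ∑ χ ∈ F, ‖(χ : G → ℂ) g‖ ^ 2 ≤ ∑ χ ∈ Finset.univ.erase (one1 G), ‖(χ : G → ℂ) g‖ ^ 2 :=
      Finset.sum_le_sum_of_subset_of_nonneg Finset.sdiff_subset fun _ _ _ => sq_nonneg _
    have h3 : (Nat.card (centralizer ({g} : Set G)) : ℝ) ≤ c := by exact_mod_cast hg
    linarith
  have hC : ∑ χ ∈ F, ‖(χ : G → ℂ) x‖ * ‖(χ : G → ℂ) y‖ * ‖(χ : G → ℂ) g‖ / ‖(χ : G → ℂ) 1‖ ≤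
      (∑ χ ∈ F, (‖(χ : G → ℂ) x‖ * ‖(χ : G → ℂ) y‖) * ‖(χ : G → ℂ) g‖) / d := by
    rw [Finset.sum_div]
    refine Finset.sum_le_sum fun χ hχ => ?_
    rw [hF, Finset.mem_sdiff, Finset.mem_erase] at hχ
    by_cases h1 : (χ : G → ℂ) x = 0
    · rw [h1, norm_zero]; simp
    by_cases h2 : (χ : G → ℂ) y = 0
    · rw [h2, norm_zero]; simp
    have h3 := hd χ (H65.Ore.coe_ne_one hχ.1.1) hχ.2 h1 h2
    exact div_le_div_of_nonneg_left (by positivity) hd0 h3
  have hD : (∑ χ ∈ F, (‖(χ : G → ℂ) x‖ * ‖(χ : G → ℂ) y‖) * ‖(χ : G → ℂ) g‖) ^ 2 ≤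
      ((mx : ℝ) * cy - 1) * ((c : ℝ) - 1) := by
    refine (Finset.sum_mul_sq_le_sq_mul_sq F _ _).trans ?_
    have h0 : (0 : ℝ) ≤ (mx : ℝ) * cy - 1 := le_trans (Finset.sum_nonneg fun _ _ => sq_nonneg _) hA
    exact mul_le_mul hA hB (Finset.sum_nonneg fun _ _ => sq_nonneg _) h0
  have hS : ∑ χ ∈ F, (‖(χ : G → ℂ) x‖ * ‖(χ : G → ℂ) y‖) * ‖(χ : G → ℂ) g‖ < (1 - ρ) * d := by
    have h1 : (0 : ℝ) < (1 - ρ) * d := mul_pos (by linarith) hd0
    exact lt_of_pow_lt_pow_left₀ 2 h1.le (lt_of_le_of_lt hD hnum)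
  have hT : (∑ χ ∈ F, (‖(χ : G → ℂ) x‖ * ‖(χ : G → ℂ) y‖) * ‖(χ : G → ℂ) g‖) / d < 1 - ρ := by
    rwa [div_lt_iff₀ hd0]
  linarith

/-! ### Values at a self-centralizing prime -/

omit [Finite G] in
/-- the values at a self-centralizing exact prime: `|χ x|² ≤ p - e` (so `≤ 1` if `e = p - 1`) -/
theorem sq_le_of_dat {p e t : ℕ} {NE X : Finset (IrrCharacter G)} (h : Dat G p e t NE X) (he : e < p) {x : G}
    (hx : orderOf x = p) (χ : IrrCharacter G) : ‖(χ : G → ℂ) x‖ ^ 2 ≤ ((p - e : ℕ) : ℝ) := by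
  classical
  have h1 : (1 : ℝ) ≤ ((p - e : ℕ) : ℝ) := by exact_mod_cast (by omega : 1 ≤ p - e)
  by_cases hN : χ ∈ NE
  · rw [h.ne_val χ hN x hx, one_pow]; exact h1
  by_cases hX : χ ∈ X
  · have h2 := h.x_val x hx
    rw [Nat.cast_sub he.le, ← h2]
    exact Finset.single_le_sum (f := fun Θ : IrrCharacter G => ‖(Θ : G → ℂ) x‖ ^ 2) (fun _ _ => sq_nonneg _) hX
  · rw [h.off χ hN hX x hx, norm_zero]
    norm_num

omit [Finite G] in
/-- nonzero values at a self-centralizing exact prime: the degree is `± 1` or `± e` modulo `p` -/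
theorem mod_of_dat {p e t : ℕ} {NE X : Finset (IrrCharacter G)} (h : Dat G p e t NE X) {x : G}
    (hx : orderOf x = p) {χ : IrrCharacter G} (h0 : (χ : G → ℂ) x ≠ 0) :
    charDegree (χ : G → ℂ) % p ∈ [1, p - 1, e, p - e] := by
  classical
  by_cases hN : χ ∈ NE
  · rcases h.ne_deg χ hN with h1 | h1 <;> rw [h1] <;> simp
  by_cases hX : χ ∈ X
  · rcases h.x_deg χ hX with h1 | h1 <;> rw [h1] <;> simp
  · exact absurd (h.off χ hN hX x hx) h0

/-! ### Values at `u k` -/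

section values

variable {p : ℕ} [hp : Fact p.Prime] {P : Sylow p G} {K : Subgroup G}

/-- a nonzero value at `u k` comes from a `θ` with `θ k ≠ 0` -/
theorem exists_theta (hK : IsComp p (P : Subgroup G) K) {χ : IrrCharacter G} {a : P} (ha : a ≠ 1) {k : K}
    (h : (χ : G → ℂ) (a * k) ≠ 0) :
    ∃ θ : IrrCharacter K, χ ∈ Over P (θ : K → ℂ) ∧ (θ : K → ℂ) k ≠ 0 := by
  classical
  have : Finite (IrrCharacter K) := finite_irr
  have := Fintype.ofFinite (IrrCharacter K)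
  rw [sum_part (isIrr_isClassFunction χ.2) (fun y hy => hK.comm a.2 hy)] at h
  obtain ⟨θ, -, hθ⟩ := Finset.exists_ne_zero_of_sum_ne_zero h
  exact ⟨θ, ⟨a, ha, left_ne_zero_of_mul hθ⟩, right_ne_zero_of_mul hθ⟩

/-- the degree of a character over `θ` modulo `p` -/
theorem deg_of_over (hK : IsComp p (P : Subgroup G) K) (hP : Nat.card P = p) {e t : ℕ}
    (he : (centralizer ((P : Subgroup G) : Set G)).relIndex (normalizer ((P : Subgroup G) : Set G)) = e)
    (ht : e * t = p - 1) {χ : IrrCharacter G} (θ : IrrCharacter K) (hθ : χ ∈ Over P (θ : K → ℂ)) :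
    ∃ s : ℤ, (s = 1 ∨ s = -1) ∧
      ((p : ℤ) ∣ charDegree (χ : G → ℂ) - s * ((orb P K (θ : K → ℂ)).card * charDegree (θ : K → ℂ)) ∨
        (p : ℤ) ∣ charDegree (χ : G → ℂ) - s * (e * charDegree (θ : K → ℂ))) := by
  classical
  have : Finite (IrrCharacter G) := finite_irr
  have := Fintype.ofFinite (IrrCharacter G)
  set m := (orb P K (θ : K → ℂ)).card with hm
  obtain ⟨n, hn0, hn1⟩ := isIrr_apply_one θ.2
  have hn : (θ : K → ℂ) 1 = n := hn1
  have hdeg : charDegree (θ : K → ℂ) = n := by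
    unfold charDegree
    rw [hn]; simp
  have hcm := card_stabAct_mul_card_orb hK hP θ.2
  rw [he, ← hm] at hcm
  set eθ := Nat.card (stabAct hK (θ : K → ℂ)) with heθ
  have het : eθ * (m * t) = p - 1 := by rw [← mul_assoc, hcm, ht]
  obtain ⟨NE, X, ε, d, S, hB, -, hNE, hX, hε, hd, hval, hvalX, -, -, -⟩ := theoremC hK hP θ.2 heθ.symm het
  have hdG : (χ : G → ℂ) 1 = (charDegree (χ : G → ℂ) : ℂ) := Blocks.Knorr.charDegree_eq χ.2
  rw [hdeg]
  rcases (hB χ).1 hθ with h | h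
  · obtain ⟨k, hk⟩ := degree_of_const hK hP θ.2 hθ (hval χ h)
    rw [H653.Sieve.sum_orb_one hK, ← hm, hn, hdG] at hk
    refine ⟨ε χ, hε χ h, Or.inl ⟨k, ?_⟩⟩
    have : ((charDegree (χ : G → ℂ) : ℤ) : ℂ) = ((ε χ * (m * n) + p * k : ℤ) : ℂ) := by
      push_cast; exact hk
    have h2 : (charDegree (χ : G → ℂ) : ℤ) = ε χ * (m * n) + p * k := by exact_mod_cast this
    rw [h2]; ring
  · obtain ⟨hSc, hS1, -, hSv⟩ := hvalX χ h
    -- every `θ'` of the orbit has the same multiplicity modulo `p`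
    have hpart := part_one_of_exc hK hP (isIrr_isCharacter χ.2) θ.2 hS1 hSv
    rw [hSc] at hpart
    obtain ⟨k, hk⟩ := hpart
    have : Finite (IrrCharacter K) := finite_irr
    have := Fintype.ofFinite (IrrCharacter K)
    have h1 : ∀ θ' : IrrCharacter K, ∃ k : ℤ, part (θ' : K → ℂ) (χ : G → ℂ) 1 =
        ((if θ' ∈ orb P K (θ : K → ℂ) then d * eθ else 0 : ℤ) : ℂ) + p * k := by
      intro θ'
      split_ifs with h2
      · obtain ⟨g, hg, hgθ⟩ := mem_orb.1 h2
        refine ⟨k, ?_⟩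
        have h3 := part_conj hK (θ : K → ℂ) (isIrr_isClassFunction χ.2) hg (1 : G)
        rw [hgθ] at h3
        have h4 : g * 1 * g⁻¹ = (1 : G) := by group
        rw [h4] at h3
        rw [← h3, hk]
        push_cast; ring
      · have h3 : ∀ x : P, x ≠ 1 → part (θ' : K → ℂ) (χ : G → ℂ) x = ((0 : ℤ) : ℂ) := by
          intro x hx
          rw [part_eq_zero_of_not_mem_orb hK hP θ.2 hθ h2 hx]; simp
        obtain ⟨k', hk'⟩ := part_one_of_const hK hP (isIrr_isCharacter χ.2) θ'.2 h3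
        exact ⟨k', by rw [hk']⟩
    choose κ hκ using h1
    have h5 := degree_eq_sum (K := K) (isIrr_isClassFunction χ.2) (χ := (χ : G → ℂ))
    refine ⟨d, hd, Or.inr ⟨∑ θ' : IrrCharacter K, κ θ' * charDegree (θ' : K → ℂ), ?_⟩⟩
    have h6 : ∀ θ' : IrrCharacter K, (θ' : K → ℂ) 1 = (charDegree (θ' : K → ℂ) : ℂ) := fun θ' =>
      Blocks.Knorr.charDegree_eq θ'.2
    have h7 : (charDegree (χ : G → ℂ) : ℂ) = ((d * eθ : ℤ) : ℂ) * (m * n) +
        p * ∑ θ' : IrrCharacter K, (κ θ' : ℂ) * charDegree (θ' : K → ℂ) := by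
      rw [← hdG, h5, Finset.mul_sum]
      have h8 : ∀ θ' : IrrCharacter K, part (θ' : K → ℂ) (χ : G → ℂ) 1 * (θ' : K → ℂ) 1 =
          (if θ' ∈ orb P K (θ : K → ℂ) then ((d * eθ : ℤ) : ℂ) * (θ' : K → ℂ) 1 else 0) +
            (p : ℂ) * ((κ θ' : ℂ) * charDegree (θ' : K → ℂ)) := by
        intro θ'
        rw [hκ θ', ← h6 θ']
        split_ifs <;> push_cast <;> ring
      rw [Finset.sum_congr rfl fun θ' _ => h8 θ', Finset.sum_add_distrib, ← Finset.sum_filter, ← Finset.mul_sum]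
      congr 2
      have h9 : (Finset.univ.filter fun θ' : IrrCharacter K => θ' ∈ orb P K (θ : K → ℂ)) = orb P K (θ : K → ℂ) := by
        ext; simp
      rw [h9, H653.Sieve.sum_orb_one hK, ← hm, hn]
    have h8 : (charDegree (χ : G → ℂ) : ℤ) = d * eθ * (m * n) +
        p * ∑ θ' : IrrCharacter K, κ θ' * charDegree (θ' : K → ℂ) := by
      have h9 : ((charDegree (χ : G → ℂ) : ℤ) : ℂ) = ((d * eθ * (m * n) +
        p * ∑ θ' : IrrCharacter K, κ θ' * charDegree (θ' : K → ℂ) : ℤ) : ℂ) := by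
        push_cast at h7 ⊢
        exact h7
      exact_mod_cast h9
    have h10 : (e : ℤ) = eθ * m := by exact_mod_cast hcm.symm
    rw [h8, h10]; ring

/-- the length of the orbit and the degree of `θ` -/
theorem orb_facts (hK : IsComp p (P : Subgroup G) K) (hP : Nat.card P = p) {e t : ℕ}
    (he : (centralizer ((P : Subgroup G) : Set G)).relIndex (normalizer ((P : Subgroup G) : Set G)) = e)
    (ht : e * t = p - 1) (θ : IrrCharacter K) :
    0 < (orb P K (θ : K → ℂ)).card ∧ 0 < charDegree (θ : K → ℂ) ∧ (orb P K (θ : K → ℂ)).card ∣ e ∧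
      charDegree (θ : K → ℂ) ∣ Nat.card K ∧
      (orb P K (θ : K → ℂ)).card * (charDegree (θ : K → ℂ) * charDegree (θ : K → ℂ)) ≤ Nat.card K ∧
      (charDegree (θ : K → ℂ) ≠ 1 ∨ (orb P K (θ : K → ℂ)).card ≠ 1 →
        (orb P K (θ : K → ℂ)).card * (charDegree (θ : K → ℂ) * charDegree (θ : K → ℂ)) + 1 ≤ Nat.card K) := by
  classical
  have : Finite (IrrCharacter G) := finite_irr
  have := Fintype.ofFinite (IrrCharacter G)
  have hcm := card_stabAct_mul_card_orb hK hP θ.2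
  rw [he] at hcm
  have hsq := H653.Sieve.orb_sq_le (P := P) hK θ.2
  refine ⟨?_, Nat.pos_of_ne_zero (H65.Ore.charDegree_ne_zero θ.2), ⟨_, (mul_comm _ _).trans hcm |>.symm⟩,
    Blocks.Knorr.charDegree_dvd θ.2, hsq.1, hsq.2⟩
  rcases Nat.eq_zero_or_pos (orb P K (θ : K → ℂ)).card with h | h
  · rw [h, mul_zero] at hcm
    rw [← hcm, zero_mul] at ht
    have := hp.out.two_le
    omega
  · exact h

omit hp in
/-- characters of `q`-defect zero vanish at `q`-singular elements -/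
theorem van_dz {K : Type*} [Group K] [Finite K] (θ : IrrCharacter K) {q c : ℕ} (hq : q.Prime) (hn : q ^ c ∣ Nat.card K)
    (hn' : ¬ q ^ (c + 1) ∣ Nat.card K) (hd : q ^ c ∣ charDegree (θ : K → ℂ)) {k : K} (hk : q ∣ orderOf k) :
    (θ : K → ℂ) k = 0 := by
  have := Fintype.ofFinite K
  obtain ⟨n, ρ, hρ, hθ⟩ := θ.2
  have h1 : Module.finrank ℂ (Fin n → ℂ) = charDegree (θ : K → ℂ) := by
    have h2 := Blocks.Knorr.charDegree_eq θ.2
    rw [← hθ, Representation.char_one] at h2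
    rw [← hθ]
    exact_mod_cast h2
  have h3 := Cfsg.Agent.Characters.DefectZero.character_inv_eq_zero ρ hρ q c hq hn hn' (h1.symm ▸ hd) k⁻¹
    (by rwa [orderOf_inv])
  rw [inv_inv] at h3
  rw [← hθ]
  exact h3

/-- the residues allowed by the pair `(m, n)` = (length of the orbit, degree) -/
def resOK (p e : ℕ) (L : List ℕ) (m n : ℕ) : Bool :=
  (L.contains ((m * n) % p) && L.contains ((p - (m * n) % p) % p)) &&
    (L.contains ((e * n) % p) && L.contains ((p - (e * n) % p) % p))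

/-- the numerical test of the list `L` : `R m n` the admissible pairs, `q ^ c` the full power of `q` in `k = |K|` -/
def listOK (p e k q c : ℕ) (R : ℕ → ℕ → Bool) (L : List ℕ) : Bool :=
  (List.range (k + 1)).all fun m => (List.range (k + 1)).all fun n =>
    (Nat.beq m 0 || Nat.beq n 0 || !Nat.beq (e % m) 0 || !Nat.beq (k % n) 0 || Nat.beq (n % q ^ c) 0 ||
      !Nat.ble (m * (n * n) + (bif Nat.beq m 1 && Nat.beq n 1 then 0 else 1)) k || !R m n) || resOK p e L m n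

theorem mod_of_dvd_sub' {p : ℕ} [Fact p.Prime] {d a : ℕ} (h : (p : ℤ) ∣ (d : ℤ) - 1 * a) : d % p = a % p :=
  H653.Sieve.mod_eq_of_dvd_sub (by rwa [one_mul] at h)

theorem mod_of_dvd_sub'' {p : ℕ} [hp : Fact p.Prime] {d a : ℕ} (h : (p : ℤ) ∣ (d : ℤ) - (-1) * a) :
    d % p = (p - a % p) % p :=
  H653.Sieve.mod_eq_of_dvd_add hp.out.pos (by rwa [neg_one_mul, sub_neg_eq_add] at h)

/-- **The list of the residues of the degrees of the characters with `χ (a k) ≠ 0`.** -/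
theorem van_mod (hK : IsComp p (P : Subgroup G) K) (hP : Nat.card P = p) {e t : ℕ}
    (he : (centralizer ((P : Subgroup G) : Set G)).relIndex (normalizer ((P : Subgroup G) : Set G)) = e)
    (ht : e * t = p - 1) {a : P} (ha : a ≠ 1) {k : K} {q c : ℕ} (hq : q.Prime) (hn : q ^ c ∣ Nat.card K)
    (hn' : ¬ q ^ (c + 1) ∣ Nat.card K) (hk : q ∣ orderOf k) (R : ℕ → ℕ → Bool)
    (hR : ∀ θ : IrrCharacter K, (θ : K → ℂ) k ≠ 0 → R (orb P K (θ : K → ℂ)).card (charDegree (θ : K → ℂ)) = true)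
    (L : List ℕ) (hL : listOK p e (Nat.card K) q c R L = true) {χ : IrrCharacter G} (h0 : (χ : G → ℂ) (a * k) ≠ 0) :
    charDegree (χ : G → ℂ) % p ∈ L := by
  obtain ⟨θ, hθ, hθk⟩ := exists_theta hK ha h0
  obtain ⟨hm, hn0, hme, hnK, h1, h2⟩ := orb_facts hK hP he ht θ
  obtain ⟨s, hs, h3⟩ := deg_of_over hK hP he ht θ hθ
  have hRθ := hR θ hθk
  have hdz : ¬ q ^ c ∣ charDegree (θ : K → ℂ) := fun h => hθk (van_dz θ hq hn hn' h hk)
  generalize charDegree (θ : K → ℂ) = n at *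
  generalize (orb P K (θ : K → ℂ)).card = m at *
  have hmk : m < Nat.card K + 1 := by
    have : m * 1 ≤ m * (n * n) := Nat.mul_le_mul_left m (Nat.mul_pos hn0 hn0)
    omega
  have hnk : n < Nat.card K + 1 := Nat.lt_succ_of_le (Nat.le_of_dvd Nat.card_pos hnK)
  have h4 := List.all_eq_true.1 (List.all_eq_true.1 hL m (List.mem_range.2 hmk)) n (List.mem_range.2 hnk)
  have e1 : Nat.beq m 0 = false := by rw [Bool.eq_false_iff]; intro h; have := Nat.eq_of_beq_eq_true h; omega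
  have e2 : Nat.beq n 0 = false := by rw [Bool.eq_false_iff]; intro h; have := Nat.eq_of_beq_eq_true h; omega
  have e3 : Nat.beq (e % m) 0 = true := by rw [Nat.mod_eq_zero_of_dvd hme]; rfl
  have e4 : Nat.beq (Nat.card K % n) 0 = true := by rw [Nat.mod_eq_zero_of_dvd hnK]; rfl
  have e5 : Nat.beq (n % q ^ c) 0 = false := by
    rw [Bool.eq_false_iff]; intro h; exact hdz (Nat.dvd_of_mod_eq_zero (Nat.eq_of_beq_eq_true h))
  have e6 : Nat.ble (m * (n * n) + (bif Nat.beq m 1 && Nat.beq n 1 then 0 else 1)) (Nat.card K) = true := by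
    rw [Nat.ble_eq]
    by_cases hm1 : m = 1
    · by_cases hn1 : n = 1
      · subst hm1 hn1
        simpa using h1
      · have := h2 (Or.inl hn1)
        have hb : Nat.beq n 1 = false := by rw [Bool.eq_false_iff]; intro h; exact hn1 (Nat.eq_of_beq_eq_true h)
        rw [hb, Bool.and_false, cond_false]
        exact this
    · have := h2 (Or.inr hm1)
      have hb : Nat.beq m 1 = false := by rw [Bool.eq_false_iff]; intro h; exact hm1 (Nat.eq_of_beq_eq_true h)
      rw [hb, Bool.false_and, cond_false]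
      exact this
  rw [e1, e2, e3, e4, e5, e6, hRθ] at h4
  simp only [Bool.not_true, Bool.or_false, Bool.false_or] at h4
  simp only [resOK, Bool.and_eq_true, List.contains_iff_mem] at h4
  obtain ⟨⟨f1, f2⟩, f3, f4⟩ := h4
  rcases h3 with h3 | h3
  · rcases hs with rfl | rfl
    · rw [mod_of_dvd_sub' (d := charDegree (χ : G → ℂ)) (a := m * n) (by push_cast; exact h3)]; exact f1
    · rw [mod_of_dvd_sub'' (d := charDegree (χ : G → ℂ)) (a := m * n) (by push_cast; exact h3)]; exact f2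
  · rcases hs with rfl | rfl
    · rw [mod_of_dvd_sub' (d := charDegree (χ : G → ℂ)) (a := e * n) (by push_cast; exact h3)]; exact f3
    · rw [mod_of_dvd_sub'' (d := charDegree (χ : G → ℂ)) (a := e * n) (by push_cast; exact h3)]; exact f4

/-- if `N(P)` induces inner automorphisms on `K`, the orbits have length one -/
theorem orb_card_one (hK : IsComp p (P : Subgroup G) K)
    (hin : ∀ n ∈ normalizer ((P : Subgroup G) : Set G), ∃ h ∈ K, ∀ y ∈ K, n * y * n⁻¹ = h * y * h⁻¹)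
    (θ : IrrCharacter K) : (orb P K (θ : K → ℂ)).card = 1 := by
  rw [orb_of_stable θ.2, Finset.card_singleton]
  intro n hn
  obtain ⟨h, hh, hy⟩ := hin n hn
  funext y
  rw [tw_apply hK _ hn]
  have h1 : (⟨n * y * n⁻¹, conj_mem hK hn y.2⟩ : K) = ⟨h, hh⟩ * y * ⟨h, hh⟩⁻¹ := by
    ext; exact hy y y.2
  rw [h1]
  exact isIrr_isClassFunction θ.2 _ _

end values

/-- **The local data of an exact prime** in the form needed by `van_mod`. -/
theorem setup [IsSimpleGroup G] (hG : ¬ IsMulCommutative G) {p : ℕ} [hp : Fact p.Prime] {N : ℕ}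
    (hN : Nat.card G = N) {x : G} (hx : orderOf x = p) {k : ℕ} (hc : Nat.card (centralizer ({x} : Set G)) = p * k)
    (e t : ℕ) (wl : List (ℕ × ℤ)) (c : ℤ) (b : Bool) (hnum : H653.Sieve.numOK N p k e t wl c b = true) :
    ∃ (P : Sylow p G) (K : Subgroup G), x ∈ (P : Subgroup G) ∧ Nat.card P = p ∧ IsComp p (P : Subgroup G) K ∧
      Nat.card K = k ∧
      (centralizer ((P : Subgroup G) : Set G)).relIndex (normalizer ((P : Subgroup G) : Set G)) = e ∧ e * t = p - 1 ∧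
      (P : Subgroup G) = zpowers x := by
  classical
  simp only [H653.Sieve.numOK, Bool.and_eq_true, bne_iff_ne, beq_iff_eq, ne_eq] at hnum
  obtain ⟨⟨⟨⟨⟨⟨hp2, hN0⟩, hN1⟩, ht⟩, huniq⟩, hwl⟩, hcnt⟩ := hnum
  have h1 : p ∣ Nat.card G := by rw [hN]; exact Nat.dvd_of_mod_eq_zero hN0
  have h2 : ¬ p ^ 2 ∣ Nat.card G := by
    rw [hN]; exact fun h => hN1 (Nat.mod_eq_zero_of_dvd h)
  have hpg : IsPGroup p (zpowers x) := IsPGroup.of_card (n := 1) (by rw [Nat.card_zpowers, hx, pow_one])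
  obtain ⟨P, hxP⟩ := hpg.exists_le_sylow
  have hP : Nat.card P = p := card_of_not_sq_dvd h1 h2 P
  have hPx : (P : Subgroup G) = zpowers x := by
    have h3 : Nat.card (zpowers x) = Nat.card (P : Subgroup G) := by rw [Nat.card_zpowers, hx]; exact hP.symm
    exact (Subgroup.eq_of_le_of_card_ge hxP h3.ge).symm
  obtain ⟨e', K, hL⟩ := exists_local hG h1 h2 P
  have hCx : centralizer ((P : Subgroup G) : Set G) = centralizer ({x} : Set G) := by
    rw [hPx, SmallSimple.SelfCentPrime.centralizer_zpowers]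
  have hCP : Nat.card (centralizer ((P : Subgroup G) : Set G)) = p * k := by rw [hCx, hc]
  have hKk : Nat.card K = k := by
    have h3 : p * Nat.card K = p * k := by rw [← hL.card_centralizer]; exact hCP
    exact Nat.eq_of_mul_eq_mul_left hp.out.pos h3
  have hN' : Nat.card (normalizer ((P : Subgroup G) : Set G)) = p * e' * k := by
    have := hL.card_normalizer
    rw [hKk] at this
    exact this
  have hrel : (centralizer ((P : Subgroup G) : Set G)).relIndex (normalizer ((P : Subgroup G) : Set G)) = e' := by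
    have hle : centralizer ((P : Subgroup G) : Set G) ≤ normalizer ((P : Subgroup G) : Set G) :=
      centralizer_le_normalizer _
    have h3 := Subgroup.index_mul_card ((centralizer ((P : Subgroup G) : Set G)).subgroupOf
      (normalizer ((P : Subgroup G) : Set G)))
    rw [Nat.card_congr (Subgroup.subgroupOfEquivOfLe hle).toEquiv, hCP, hN'] at h3
    have hk : 0 < k := by rw [← hKk]; exact Nat.card_pos
    have h4 : 0 < p * k := Nat.mul_pos hp.out.pos hk
    apply Nat.eq_of_mul_eq_mul_right h4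
    rw [Subgroup.relIndex, h3]; ring
  have hee : e' = e := by
    by_contra hne
    have hlt : e' < p := by
      have := Nat.le_of_dvd (by have := hp.out.two_le; omega) hL.dvd_pred
      have := hp.out.two_le
      omega
    have h3 := List.all_eq_true.1 huniq e' (List.mem_range.2 hlt)
    have hce := hL.card_eq
    rw [hKk, hN] at hce
    have hpos : 0 < p * e' * k := by
      have hk : 0 < k := by rw [← hKk]; exact Nat.card_pos
      have he1 := hL.one_lt
      exact Nat.mul_pos (Nat.mul_pos hp.out.pos (by omega)) hk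
    have h4 : N % (p * e' * k) = 0 := by rw [hce]; exact Nat.mul_mod_left _ _
    have h5 : N / (p * e' * k) = Nat.card (Sylow p G) := by rw [hce]; exact Nat.mul_div_cancel _ hpos
    have h6 : Nat.card (Sylow p G) % p = 1 := by
      have h7 := card_sylow_modEq_one p G
      have h8 : Nat.card (Sylow p G) % p = 1 % p := h7
      rw [h8, Nat.mod_eq_of_lt hp.out.one_lt]
    have h7 : (p - 1) % e' = 0 := Nat.mod_eq_zero_of_dvd hL.dvd_pred
    simp only [Bool.or_eq_true, beq_iff_eq, bne_iff_ne, ne_eq] at h3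
    rcases h3 with ((h3 | h3) | h3) | h3
    · exact hne h3
    · exact h3 h7
    · exact h3 h4
    · rw [h5] at h3; exact h3 h6
  subst hee
  obtain ⟨K', hK'⟩ := exists_isComp P hP
  have hK'c : Nat.card K' = k := by
    have h3 := SmallSimple.ThetaOrtho.card_centralizer hK' hP
    rw [hCP] at h3
    exact (Nat.eq_of_mul_eq_mul_left hp.out.pos h3).symm
  exact ⟨P, K', hxP (mem_zpowers x), hP, hK', hK'c, hrel, ht, hPx⟩

/-- **The form for the rows** : `u` of exact prime order `p`, `|C(u)| = p k`, `v` commuting with `u`, of order prime to `p` and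
divisible by `q`: `χ (u v) ≠ 0` restricts the residue of `χ(1)` modulo `p`. -/
theorem mod_mem_of_ne_zero [IsSimpleGroup G] (hG : ¬ IsMulCommutative G) {p : ℕ} (hp : p.Prime) {N : ℕ}
    (hN : Nat.card G = N) {u v : G} (hu : orderOf u = p) {k : ℕ} (hc : Nat.card (centralizer ({u} : Set G)) = p * k)
    (e t : ℕ) (wl : List (ℕ × ℤ)) (c' : ℤ) (b : Bool) (hnum : H653.Sieve.numOK N p k e t wl c' b = true)
    (huv : u * v = v * u) (hv : ¬ p ∣ orderOf v) {q c : ℕ} (hq : q.Prime) (hn : q ^ c ∣ k)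
    (hn' : ¬ q ^ (c + 1) ∣ k) (hk : q ∣ orderOf v) (L : List ℕ)
    (hL : listOK p e k q c (fun _ _ => true) L = true) {χ : IrrCharacter G} (h0 : (χ : G → ℂ) (u * v) ≠ 0) :
    charDegree (χ : G → ℂ) % p ∈ L := by
  have : Fact p.Prime := ⟨hp⟩
  obtain ⟨P, K, huP, hP, hK, hKc, he, ht, hPu⟩ := setup hG hN hu hc e t wl c' b hnum
  have hvK : v ∈ K := by
    rw [hK v]
    refine ⟨?_, hv⟩
    rw [hPu, SmallSimple.SelfCentPrime.centralizer_zpowers, mem_centralizer_singleton_iff]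
    exact huv.symm
  have ha : (⟨u, huP⟩ : (P : Subgroup G)) ≠ 1 := by
    intro h
    have h1 : u = 1 := congrArg Subtype.val h
    rw [h1, orderOf_one] at hu
    exact hp.one_lt.ne hu
  subst hKc
  exact van_mod hK hP he ht (a := ⟨u, huP⟩) ha (k := ⟨v, hvK⟩) hq hn hn' (by rwa [Subgroup.orderOf_mk]) (fun _ _ => true)
    (fun _ _ => rfl) L hL h0

end Cfsg.Agent.H529.Inv.Pair
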