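import Cfsg.Agent.H529.Inv.Pair
import Cfsg.Agent.H511.Ore.Deg

/-!
# S4171 (and S2443), sporadic rows: the pair lemma with a degree sieve

`deg_of_check` : a nontrivial irreducible character whose degree satisfies the residue conditions `rl` has degree at least `D`
(all divisors of `|G|` are tested: columns `cd` of the exact primes as in `H511.Ore.degOff_of_check`, residue lists `rl`,
excluded degrees `ex`, minimal degree `m`).

`i4_row` : the result for two strongly real elements `x`, `y`; `rl` collects what `χ x ≠ 0 ≠ χ y` says on `χ(1)`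
(`Pair.mod_of_dat`, `Pair.mod_mem_of_ne_zero`, `Pair.van_mod`).
-/

set_option autoImplicit false

namespace Cfsg.Agent.H529.Inv.Pair

open Cfsg Subgroup
open Cfsg.Agent.Characters Cfsg.Agent.Characters.Core
open Cfsg.Agent.H653.Sieve Cfsg.Agent.H651.Two Cfsg.Agent.H511.Ore
open Cfsg.Agent.H65.Ore (Prd chkSC exists_dat)
open Cfsg.Agent.H854.Ore (SR)
open Cfsg.Agent.H777.Ore (I4)

universe u

variable {G : Type u} [Group G] [Finite G]

/-- `d` is excluded: small, wrong residue for `rl` or for a column, or excluded by hand. -/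
def tstP (m : ℕ) (rl : List (ℕ × List ℕ)) (ex : List ℕ) (cd : List CD) (d : ℕ) : Bool :=
  bif Nat.ble d 1 then true else bif Nat.ble m d then
    (bif (rl.any fun pl => !(pl.2.any fun r => Nat.beq (d % pl.1) r)) then true else
      bif (cd.any fun c => !(c.wl.any fun rw => Nat.beq (d % c.r) rw.1)) then true else ex.any fun x => Nat.beq d x)
    else true

/-- **The degree sieve with residue conditions.** -/
theorem deg_of_check [IsSimpleGroup G] (hG : ¬ IsMulCommutative G) (N : ℕ) (hN : Nat.card G = N)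
    (L : List (ℕ × ℕ)) (hL : (L.all fun pa => Nat.Prime pa.1) = true) (hLN : facProd L = N) (cd : List CD)
    (hcd : (cd.all (CD.ok N)) = true) (hx : ∀ d ∈ cd, d.Has G) {m D : ℕ} {ex : List ℕ} (hm : MinDeg G m)
    (hex : NoDeg G ex) (rl : List (ℕ × List ℕ)) (h : allDiv (D * D) (tstP m rl ex cd) L 1 = true)
    {χ : IrrCharacter G} (hχ : (χ : G → ℂ) ≠ 1) (hr : ∀ pl ∈ rl, charDegree (χ : G → ℂ) % pl.1 ∈ pl.2) :
    D ≤ charDegree (χ : G → ℂ) := by
  by_contra hlt
  push Not at hlt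
  set d := charDegree (χ : G → ℂ) with hd
  have h1 : d ∣ facProd L := by rw [hLN, ← hN]; exact charDegree_dvd χ
  have hL' : ∀ pa ∈ L, pa.1.Prime := fun pa hpa => of_decide_eq_true (List.all_eq_true.1 hL pa hpa)
  have h2 := allDiv_spec hL' h d h1 (by rw [one_mul]; exact Nat.mul_lt_mul'' hlt hlt)
  rw [one_mul] at h2
  have h3 : 2 ≤ d := two_le_charDegree hG χ hχ
  have h4 : Nat.ble d 1 = false := by
    rw [Bool.eq_false_iff]; intro h; have := Nat.le_of_ble_eq_true h; omega
  have h5 : Nat.ble m d = true := Nat.ble_eq_true_of_le (hm χ hχ)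
  have h6 : (rl.any fun pl => !(pl.2.any fun r => Nat.beq (d % pl.1) r)) = false := by
    rw [Bool.eq_false_iff]
    intro h
    obtain ⟨pl, hpl, h8⟩ := List.any_eq_true.1 h
    have h9 : (pl.2.any fun r => Nat.beq (d % pl.1) r) = true :=
      List.any_eq_true.2 ⟨_, hr pl hpl, by rw [hd]; exact Nat.beq_refl _⟩
    rw [h9] at h8
    exact absurd h8 (by decide)
  have h7 : (cd.any fun c => !(c.wl.any fun rw => Nat.beq (d % c.r) rw.1)) = false := by
    rw [Bool.eq_false_iff]
    intro h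
    obtain ⟨c, hc, h8⟩ := List.any_eq_true.1 h
    have h9 := res_of_has hG hN (hx c hc) (List.all_eq_true.1 hcd c hc) χ
    rw [← hd] at h9
    rw [h9] at h8
    exact absurd h8 (by decide)
  have h8 : (ex.any fun x => Nat.beq d x) = false := by
    rw [Bool.eq_false_iff]
    intro h
    obtain ⟨x, hx, h9⟩ := List.any_eq_true.1 h
    exact hex χ (by rw [← hd, Nat.eq_of_beq_eq_true h9]; exact hx)
  rw [tstP, h4, h5, h6, h7, h8] at h2
  exact absurd h2 (by decide)

/-- **The row theorem.** -/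
theorem i4_row [IsSimpleGroup G] (hG : ¬ IsMulCommutative G) (N : ℕ) (hN : Nat.card G = N)
    (L : List (ℕ × ℕ)) (hL : (L.all fun pa => Nat.Prime pa.1) = true) (hLN : facProd L = N) (cd : List CD)
    (hcd : (cd.all (CD.ok N)) = true) (hx : ∀ d ∈ cd, d.Has G) {m D : ℕ} {ex : List ℕ} (hm : MinDeg G m)
    (hex : NoDeg G ex) (rl : List (ℕ × List ℕ)) (h : allDiv (D * D) (tstP m rl ex cd) L 1 = true)
    {x y : G} (srx : SR x) (sry : SR y) {mx cy : ℕ} (hmx : ∀ χ : IrrCharacter G, ‖(χ : G → ℂ) x‖ ^ 2 ≤ (mx : ℝ))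
    (hcy : Nat.card (centralizer ({y} : Set G)) ≤ cy)
    (hrl : ∀ χ : IrrCharacter G, (χ : G → ℂ) ≠ 1 → (χ : G → ℂ) x ≠ 0 → (χ : G → ℂ) y ≠ 0 →
      ∀ pl ∈ rl, charDegree (χ : G → ℂ) % pl.1 ∈ pl.2)
    (K : ℕ) (hK : (mx * cy - 1) * (K - 1) < D ^ 2) {g : G} (hg : Nat.card (centralizer ({g} : Set G)) ≤ K) : I4 g :=
  i4_pair srx sry hmx hcy (fun χ h1 h2 h3 => deg_of_check hG N hN L hL hLN cd hcd hx hm hex rl h h1 (hrl χ h1 h2 h3))
    hK hg

/-- **The row theorem**, `x` of a self-centralizing exact prime order `p`, `y = u v`, `u` of exact prime order `q`,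
`v ∈ C(u)` of order prime to `q` and divisible by the prime `r`. -/
theorem i4_row_mul [IsSimpleGroup G] (hG : ¬ IsMulCommutative G) (N : ℕ) (hN : Nat.card G = N)
    (L : List (ℕ × ℕ)) (hL : (L.all fun pa => Nat.Prime pa.1) = true) (hLN : facProd L = N) (cd : List CD)
    (hcd : (cd.all (CD.ok N)) = true) (hx : ∀ d ∈ cd, d.Has G) {m D : ℕ} {ex : List ℕ} (hm : MinDeg G m)
    (hex : NoDeg G ex)
    {p e t S : ℕ} (hp : p.Prime) {x : G} (hxo : orderOf x = p) (hcx : Nat.card (centralizer ({x} : Set G)) = p)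
    (hchk : chkSC N p e t S = true) (srx : SR x)
    {q k e' t' : ℕ} {wl : List (ℕ × ℤ)} {c' : ℤ} {b : Bool} (hq : q.Prime) {u v : G} (hu : orderOf u = q)
    (hcu : Nat.card (centralizer ({u} : Set G)) = q * k) (hnum : numOK N q k e' t' wl c' b = true)
    (huv : u * v = v * u) (hv : ¬ q ∣ orderOf v) {r c : ℕ} (hr : r.Prime) (hn : r ^ c ∣ k) (hn' : ¬ r ^ (c + 1) ∣ k)
    (hrv : r ∣ orderOf v) (Lq : List ℕ) (hLq : listOK q e' k r c (fun _ _ => true) Lq = true) (sry : SR (u * v)) {cy : ℕ}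
    (hcy : Nat.card (centralizer ({u * v} : Set G)) ≤ cy)
    (h : allDiv (D * D) (tstP m [(p, [1, p - 1, e, p - e]), (q, Lq)] ex cd) L 1 = true)
    (K : ℕ) (hK : ((p - e) * cy - 1) * (K - 1) < D ^ 2) {g : G} (hg : Nat.card (centralizer ({g} : Set G)) ≤ K) :
    I4 g := by
  obtain ⟨NE, X, hD⟩ := exists_dat hG hp hN hxo hcx e t S hchk
  have hep : e < p := by
    have h1 := hD.het
    have h2 := hp.two_le
    rcases Nat.eq_zero_or_pos t with h3 | h3
    · rw [h3, mul_zero] at h1; omega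
    · have : e * 1 ≤ e * t := Nat.mul_le_mul_left e h3
      omega
  refine i4_row hG N hN L hL hLN cd hcd hx hm hex _ h srx sry (fun χ => sq_le_of_dat hD hep hxo χ) hcy ?_ K hK hg
  intro χ _ h1 h2 pl hpl
  simp only [List.mem_cons, List.not_mem_nil, or_false] at hpl
  rcases hpl with rfl | rfl
  · exact mod_of_dat hD hxo h1
  · exact mod_mem_of_ne_zero hG hq hN hu hcu e' t' wl c' b hnum huv hv hr hn hn' hrv Lq hLq h2

end Cfsg.Agent.H529.Inv.Pair
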